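import Mathlib
import Groth.Agent.TFLib.Mult

/-!
`length(B/xB) ≤ [L:K] length(A/xA)` for an extension of a one-dimensional local domain.
-/

set_option autoImplicit false
universe u

open scoped Pointwise TensorProduct

noncomputable section

namespace Groth.Agent.DegOrdLib

theorem length_le_of_fg {R : Type u} [CommRing R] {Q : Type u} [AddCommGroup Q] [Module R Q]
    {n : ℕ∞} (h : ∀ P : Submodule R Q, P.FG → Module.length R P ≤ n) : Module.length R Q ≤ n := by
  classical
  rw [Module.length_eq_height]
  refine Order.height_le fun p _ => ?_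
  have hlt : ∀ i : Fin p.length, ∃ y, y ∈ p i.succ ∧ y ∉ p i.castSucc := fun i =>
    SetLike.exists_of_lt (p.step i)
  choose y hy1 hy2 using hlt
  let P : Submodule R Q := Submodule.span R (Set.range y)
  have hP : P.FG := Submodule.fg_span (Set.finite_range y)
  let q : LTSeries (Submodule R P) :=
    { length := p.length
      toFun := fun i => (p i).comap P.subtype
      step := fun i => by
        refine lt_of_le_of_ne (Submodule.comap_mono (p.step i).le) fun he => hy2 i ?_
        have : (⟨y i, Submodule.subset_span ⟨i, rfl⟩⟩ : P) ∈ (p i.succ).comap P.subtype := hy1 i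
        rw [← he] at this
        exact this }
  refine le_trans ?_ (h P hP)
  rw [Module.length_eq_height]
  exact le_trans (le_of_eq rfl) (Order.length_le_height (p := q) le_top)

variable {A B K L : Type u} [CommRing A] [IsDomain A] [IsNoetherianRing A] [Ring.KrullDimLE 1 A]
  [CommRing B] [IsDomain B] [Algebra A B] [FaithfulSMul A B]
  [Field K] [Field L] [Algebra A K] [IsFractionRing A K] [Algebra B L] [IsFractionRing B L]
  [Algebra K L] [Algebra A L] [IsScalarTower A K L] [IsScalarTower A B L] [FiniteDimensional K L]

/-- `K ⊗ M → L`. -/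
def mu (M : Submodule A B) : K ⊗[A] M →ₗ[K] L :=
  LinearMap.liftBaseChange K (((IsScalarTower.toAlgHom A B L).toLinearMap).comp M.subtype)

theorem mu_injective (M : Submodule A B) : Function.Injective (mu (K := K) (L := L) M) := by
  let f : M →ₗ[A] L := ((IsScalarTower.toAlgHom A B L).toLinearMap).comp M.subtype
  have hf : Function.Injective f := (IsFractionRing.injective B L).comp M.injective_subtype
  haveI : Module.Flat A K := IsLocalization.flat K (nonZeroDivisors A)
  have h1 : Function.Injective (f.lTensor K) := Module.Flat.lTensor_preserves_injective_linearMap f hf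
  have e : ∀ z, mu (K := K) (L := L) M z =
      IsLocalization.moduleLid (nonZeroDivisors A) K L (f.lTensor K z) := by
    intro z
    induction z using TensorProduct.induction_on with
    | zero => simp
    | tmul c m => simp [mu, f, IsLocalization.moduleLid]; rfl
    | add a b ha hb => simp only [map_add, ha, hb]
  intro a b hab
  rw [e, e] at hab
  exact h1 ((IsLocalization.moduleLid (nonZeroDivisors A) K L).injective hab)

theorem range_mu (M : Submodule A B) :
    LinearMap.range (mu (K := K) (L := L) M) = Submodule.span K (algebraMap B L '' (M : Set B)) := by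
  refine le_antisymm ?_ (Submodule.span_le.mpr ?_)
  · rintro _ ⟨z, rfl⟩
    induction z using TensorProduct.induction_on with
    | zero => simp
    | tmul c m =>
      simp only [mu, LinearMap.liftBaseChange_tmul]
      exact Submodule.smul_mem _ _ (Submodule.subset_span ⟨m, m.2, rfl⟩)
    | add a b ha hb => rw [map_add]; exact add_mem ha hb
  · rintro _ ⟨m, hm, rfl⟩
    exact ⟨1 ⊗ₜ ⟨m, hm⟩, by simp [mu]⟩

theorem span_range_algebraMap :
    Submodule.span K (Set.range (algebraMap B L)) = (⊤ : Submodule K L) := by
  let S : Subalgebra K L := Algebra.adjoin K (Set.range (algebraMap B L))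
  have hS : Subalgebra.toSubmodule S = Submodule.span K (Set.range (algebraMap B L)) := by
    rw [Algebra.adjoin_eq_span]
    congr 1
    exact SetLike.ext'_iff.mp (Submonoid.closure_eq (MonoidHom.mrange (algebraMap B L).toMonoidHom))
  rw [← hS, eq_top_iff]
  rintro z -
  obtain ⟨a, b, hb, rfl⟩ := IsFractionRing.div_surjective (A := B) z
  rw [Subalgebra.mem_toSubmodule, div_eq_mul_inv]
  exact S.mul_mem (Algebra.subset_adjoin ⟨a, rfl⟩)
    (Subalgebra.inv_mem_of_algebraic S (x := ⟨_, Algebra.subset_adjoin ⟨b, rfl⟩⟩)
      (Algebra.IsAlgebraic.isAlgebraic _))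

variable (x : A)

/-- `M/xM → B/xB`. -/
def toQuot (M : Submodule A B) :
    (M ⧸ (x • ⊤ : Submodule A M)) →ₗ[A] (B ⧸ (x • ⊤ : Submodule A B)) :=
  Submodule.mapQ _ _ M.subtype (by
    intro m hm
    obtain ⟨m', -, rfl⟩ := (Submodule.mem_smul_pointwise_iff_exists m x ⊤).mp hm
    rw [Submodule.mem_comap, map_smul]
    exact Submodule.smul_mem_pointwise_smul _ x ⊤ trivial)

theorem length_quot_eq (M : Submodule A B) (hM : M.FG) (hx : x ≠ 0) :
    Module.length A (M ⧸ (x • ⊤ : Submodule A M)) =
      (Module.finrank K (K ⊗[A] M) : ℕ∞) * Ring.ord A x := by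
  haveI : Module.Finite A M := Module.Finite.iff_fg.mpr hM
  haveI : NoZeroSMulDivisors A M := ⟨fun {c m} h => or_iff_not_imp_left.mpr fun hc =>
    Subtype.ext (smul_right_injective B hc ((congrArg Subtype.val h).trans (smul_zero c).symm))⟩
  exact Groth.Agent.TFLib.length_quot_smul_le_finrank_mul rfl hx

theorem finrank_le (M : Submodule A B) :
    Module.finrank K (K ⊗[A] M) ≤ Module.finrank K L :=
  LinearMap.finrank_le_finrank_of_injective (mu_injective (L := L) M)

theorem finrank_eq_of_span (M : Submodule A B)
    (h : Submodule.span K (algebraMap B L '' (M : Set B)) = ⊤) :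
    Module.finrank K (K ⊗[A] M) = Module.finrank K L :=
  (LinearEquiv.ofBijective (mu (K := K) (L := L) M)
    ⟨mu_injective M, LinearMap.range_eq_top.mp ((range_mu M).trans h)⟩).finrank_eq

/-- Finitely generated submodules of `B` containing given elements and spanning `L`. -/
theorem exists_fg_span (s : Set B) (hs : s.Finite) :
    ∃ M : Submodule A B, M.FG ∧ s ⊆ M ∧ Submodule.span K (algebraMap B L '' (M : Set B)) = ⊤ := by
  obtain ⟨t, htB, hts, hli⟩ := exists_linearIndependent K (Set.range (algebraMap B L))
  have htfin : t.Finite := hli.setFinite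
  choose g hg using fun z : t => htB z.2
  haveI := htfin.to_subtype
  refine ⟨Submodule.span A (s ∪ Set.range g), Submodule.fg_span (hs.union (Set.finite_range g)),
    fun z hz => Submodule.subset_span (Or.inl hz), ?_⟩
  rw [eq_top_iff, ← span_range_algebraMap (B := B), ← hts]
  refine Submodule.span_mono fun z hz => ?_
  exact ⟨g ⟨z, hz⟩, Submodule.subset_span (Or.inr ⟨_, rfl⟩), hg ⟨z, hz⟩⟩

theorem length_le (hx : x ≠ 0) :
    Module.length A (B ⧸ (x • ⊤ : Submodule A B)) ≤ (Module.finrank K L : ℕ∞) * Ring.ord A x := by
  refine length_le_of_fg fun P hP => ?_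
  obtain ⟨s, hs⟩ := hP
  choose g hg using fun z : (B ⧸ (x • ⊤ : Submodule A B)) => Submodule.Quotient.mk_surjective _ z
  let M : Submodule A B := Submodule.span A (g '' s)
  have hM : M.FG := Submodule.fg_span (s.finite_toSet.image g)
  have hle : P ≤ LinearMap.range (toQuot x M) := by
    rw [← hs, Submodule.span_le]
    intro z hz
    exact ⟨Submodule.Quotient.mk ⟨g z, Submodule.subset_span ⟨z, hz, rfl⟩⟩, hg z⟩
  calc Module.length A P ≤ Module.length A (LinearMap.range (toQuot x M)) :=
        Module.length_le_of_injective (Submodule.inclusion hle) (Submodule.inclusion_injective hle)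
    _ ≤ Module.length A (M ⧸ (x • ⊤ : Submodule A M)) :=
        Module.length_le_of_surjective _ (toQuot x M).surjective_rangeRestrict
    _ = _ := length_quot_eq (K := K) x M hM hx
    _ ≤ _ := by gcongr; exact_mod_cast finrank_le (L := L) M

theorem length_eq_iff [IsLocalRing A] (hdim : ringKrullDim A = 1) (hx0 : x ≠ 0)
    (hx : x ∈ IsLocalRing.maximalIdeal A) :
    Module.length A (B ⧸ (x • ⊤ : Submodule A B)) = (Module.finrank K L : ℕ∞) * Ring.ord A x ↔
      Module.Finite A B := by
  have hNtop : (Module.finrank K L : ℕ∞) * Ring.ord A x ≠ ⊤ :=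
    WithTop.mul_ne_top (ENat.natCast_ne_top _) (Ring.ord_ne_top (mem_nonZeroDivisors_of_ne_zero hx0))
  constructor
  · intro heq
    have hfin : IsFiniteLength A (B ⧸ (x • ⊤ : Submodule A B)) :=
      Module.length_ne_top_iff.mp (heq ▸ hNtop)
    haveI := (isFiniteLength_iff_isNoetherian_isArtinian.mp hfin).1
    obtain ⟨s, hs⟩ := IsNoetherian.noetherian (⊤ : Submodule A (B ⧸ (x • ⊤ : Submodule A B)))
    choose g hg using fun z : (B ⧸ (x • ⊤ : Submodule A B)) => Submodule.Quotient.mk_surjective _ z
    obtain ⟨M, hM, hsM, hspan⟩ := exists_fg_span (A := A) (K := K) (L := L) (g '' s) (s.finite_toSet.image g)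
    have hsurj : Function.Surjective (toQuot x M) := by
      rw [← LinearMap.range_eq_top, eq_top_iff, ← hs, Submodule.span_le]
      intro z hz
      exact ⟨Submodule.Quotient.mk ⟨g z, hsM ⟨z, hz, rfl⟩⟩, hg z⟩
    have hlen : Module.length A (M ⧸ (x • ⊤ : Submodule A M)) =
        Module.length A (B ⧸ (x • ⊤ : Submodule A B)) := by
      rw [length_quot_eq (K := K) x M hM hx0, finrank_eq_of_span M hspan, heq]
    have hker : LinearMap.ker (toQuot x M) = ⊥ := by
      have h := Module.length_eq_add_of_exact (LinearMap.ker (toQuot x M)).subtype (toQuot x M)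
        (Submodule.subtype_injective _) hsurj (LinearMap.exact_subtype_ker_map _)
      rw [hlen] at h
      have h0 : Module.length A (LinearMap.ker (toQuot x M)) = 0 := by
        have hne : Module.length A (B ⧸ (x • ⊤ : Submodule A B)) ≠ ⊤ := heq ▸ hNtop
        exact ((WithTop.add_right_inj hne).mp ((zero_add _).trans h)).symm
      exact (Submodule.eq_bot_iff _).mpr fun z hz => by
        have := Module.length_eq_zero_iff.mp h0
        exact congrArg Subtype.val (Subsingleton.elim (⟨z, hz⟩ : LinearMap.ker (toQuot x M)) 0)
    have hdesc : ∀ y : B, x • y ∈ M → y ∈ M := by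
      intro y hy
      have h1 : Submodule.Quotient.mk (⟨x • y, hy⟩ : M) ∈ LinearMap.ker (toQuot x M) := by
        rw [LinearMap.mem_ker, toQuot, Submodule.mapQ_apply, Submodule.Quotient.mk_eq_zero]
        exact Submodule.smul_mem_pointwise_smul y x ⊤ trivial
      rw [hker, Submodule.mem_bot, Submodule.Quotient.mk_eq_zero] at h1
      obtain ⟨m, -, hm⟩ := (Submodule.mem_smul_pointwise_iff_exists _ x ⊤).mp h1
      have h2 : x • (m : B) = x • y := congrArg Subtype.val hm
      rw [← smul_right_injective B hx0 h2]
      exact m.2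
    have htop : M = ⊤ := by
      rw [eq_top_iff]
      rintro b -
      have hb : algebraMap B L b ∈ Submodule.span K (algebraMap B L '' (M : Set B)) :=
        hspan ▸ Submodule.mem_top
      obtain ⟨a, ha⟩ := multiple_mem_span_of_mem_localization_span (nonZeroDivisors A) K _ _ hb
      have hspanA : Submodule.span A (algebraMap B L '' (M : Set B)) =
          M.map (IsScalarTower.toAlgHom A B L).toLinearMap := by
        conv_rhs => rw [← Submodule.span_eq M, Submodule.map_span]
        rfl
      rw [hspanA] at ha
      obtain ⟨m, hm, hma⟩ := ha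
      have hab : (a : A) • b ∈ M := by
        have : (a : A) • b = m := IsFractionRing.injective B L (by
          rw [show algebraMap B L ((a : A) • b) = (a : A) • algebraMap B L b from
            (IsScalarTower.toAlgHom A B L).toLinearMap.map_smul _ _]
          exact hma.symm)
        rwa [this]
      have hrad : ∃ n : ℕ, x ^ n ∈ Ideal.span {(a : A)} := by
        have h1 : x ∈ (Ideal.span {(a : A)}).radical := by
          rw [Ideal.radical_eq_sInf, Ideal.mem_sInf]
          rintro P ⟨hPa, hP⟩
          have hne : P ≠ ⊥ := fun h => nonZeroDivisors.coe_ne_zero a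
            (by simpa [h] using hPa (Ideal.mem_span_singleton_self _))
          haveI := hP
          haveI : P.IsMaximal := Ring.krullDimLE_one_iff_of_noZeroDivisors.mp ‹_› P hne hP
          rw [IsLocalRing.eq_maximalIdeal ‹P.IsMaximal›]
          exact hx
        exact h1
      obtain ⟨n, hn⟩ := hrad
      obtain ⟨c, hc⟩ := Ideal.mem_span_singleton'.mp hn
      have hxn : x ^ n • b ∈ M := by rw [← hc, mul_smul]; exact M.smul_mem c hab
      clear hn hc
      induction n with
      | zero => simpa using hxn
      | succ n ih => exact ih (hdesc _ (by rwa [← mul_smul, ← pow_succ']))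
    exact Module.finite_def.mpr (htop ▸ hM)
  · intro hB
    have hspan : Submodule.span K (algebraMap B L '' ((⊤ : Submodule A B) : Set B)) = ⊤ := by
      rw [Submodule.top_coe, Set.image_univ, span_range_algebraMap]
    rw [← finrank_eq_of_span (K := K) (L := L) (⊤ : Submodule A B) hspan,
      ← length_quot_eq x (⊤ : Submodule A B) (Module.finite_def.mp hB) hx0]
    exact (Submodule.Quotient.equiv _ _ Submodule.topEquiv (by
      rw [Submodule.map_pointwise_smul, Submodule.map_top, LinearEquiv.range])).length_eq.symm

end Groth.Agent.DegOrdLib
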